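import Cfsg.Agent.OddCyclic.KOF.FixA
import Cfsg.Agent.Omega.KM.Final
import Cfsg.Agent.Omega.KM.Bridge
import Cfsg.Agent.OddCyclic.FFBasic

/-!
# K-fact: coordinates of the natural and of the `O₄⁻` module

`list2` : an irreducible nontrivial `SL₂(F)`-module `V`, `|F| = 2^m ≥ 4`, with `|V : C_V(a)| ≤ |F|` for an involution `a`
has natural coordinates `X Y` or `O₄⁻` coordinates `X Y Z`.
-/

set_option autoImplicit false
set_option linter.unusedSectionVars false
set_option linter.unusedVariables false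

namespace Cfsg.Agent.OddCyclic.KOF

open Matrix Finset Cfsg.Agent.Omega.KM
open Cfsg.Agent.OddCyclic.T1Sl2 (up dg)

universe u v

variable {F : Type u} [Field F] [Fintype F] [CharP F 2] {V : Type v} [CommGroup V]

theorem up_eq (b : F) : up b = uu b := by
  apply Cfsg.Agent.OddCyclic.T1Sl2.ext2 <;> rfl

/-- the action on the additive group -/
def addRho (ρ : SpecialLinearGroup (Fin 2) F →* MulAut V) :
    SpecialLinearGroup (Fin 2) F →* AddMonoid.End (Additive V) where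
  toFun g := MonoidHom.toAdditive (ρ g : V ≃* V).toMonoidHom
  map_one' := by
    ext x
    change Additive.ofMul ((ρ 1) x.toMul) = x
    rw [map_one]
    rfl
  map_mul' g h := by
    ext x
    change Additive.ofMul ((ρ (g * h)) x.toMul) = Additive.ofMul (ρ g (ρ h x.toMul))
    rw [map_mul]
    rfl

omit [Fintype F] [CharP F 2] in
theorem addRho_apply (ρ : SpecialLinearGroup (Fin 2) F →* MulAut V) (g : SpecialLinearGroup (Fin 2) F) (x : V) :
    addRho ρ g (Additive.ofMul x) = Additive.ofMul (ρ g x) := rfl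

/-- natural coordinates -/
structure Nat2 (ρ : SpecialLinearGroup (Fin 2) F →* MulAut V) (X Y : Additive V →+ F) : Prop where
  inj : ∀ v w : V, X (.ofMul v) = X (.ofMul w) → Y (.ofMul v) = Y (.ofMul w) → v = w
  surj : ∀ x y : F, ∃ v : V, X (.ofMul v) = x ∧ Y (.ofMul v) = y
  upX : ∀ (b : F) (v : V), X (.ofMul (ρ (up b) v)) = X (.ofMul v) + b * Y (.ofMul v)
  upY : ∀ (b : F) (v : V), Y (.ofMul (ρ (up b) v)) = Y (.ofMul v)
  dgX : ∀ (s : Fˣ) (v : V), X (.ofMul (ρ (dg s) v)) = s * X (.ofMul v)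
  dgY : ∀ (s : Fˣ) (v : V), Y (.ofMul (ρ (dg s) v)) = (s⁻¹ : Fˣ) * Y (.ofMul v)

/-- coordinates of the `O₄⁻(q)`-module -/
structure OM4 (ρ : SpecialLinearGroup (Fin 2) F →* MulAut V) (q : ℕ) (X Y Z : Additive V →+ F) : Prop where
  Xq : ∀ v, X v ^ q = X v
  Zq : ∀ v, Z v ^ q = Z v
  inj : ∀ v w : V, X (.ofMul v) = X (.ofMul w) → Y (.ofMul v) = Y (.ofMul w) → Z (.ofMul v) = Z (.ofMul w) → v = w
  surj : ∀ x y z : F, x ^ q = x → z ^ q = z → ∃ v : V, X (.ofMul v) = x ∧ Y (.ofMul v) = y ∧ Z (.ofMul v) = z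
  upX : ∀ (b : F) (v : V), X (.ofMul (ρ (up b) v)) =
    X (.ofMul v) + b * Y (.ofMul v) ^ q + b ^ q * Y (.ofMul v) + b ^ (q + 1) * Z (.ofMul v)
  upY : ∀ (b : F) (v : V), Y (.ofMul (ρ (up b) v)) = Y (.ofMul v) + b * Z (.ofMul v)
  upZ : ∀ (b : F) (v : V), Z (.ofMul (ρ (up b) v)) = Z (.ofMul v)
  dgX : ∀ (s : Fˣ) (v : V), X (.ofMul (ρ (dg s) v)) = s ^ (q + 1) * X (.ofMul v)
  dgY : ∀ (s : Fˣ) (v : V), Y (.ofMul (ρ (dg s) v)) = s * ((s⁻¹ : Fˣ) : F) ^ q * Y (.ofMul v)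
  dgZ : ∀ (s : Fˣ) (v : V), Z (.ofMul (ρ (dg s) v)) = ((s⁻¹ : Fˣ) : F) ^ (q + 1) * Z (.ofMul v)

/-! ### the model, one digit -/

theorem tact_one (e : Fin 1 → ℕ) (g : SpecialLinearGroup (Fin 2) F) (t : (Fin 1 → Fin 2) → F) (i : Fin 2) :
    tact e g t (fun _ => i) = g i 0 ^ 2 ^ e 0 * t (fun _ => 0) + g i 1 ^ 2 ^ e 0 * t (fun _ => 1) := by
  unfold tact
  rw [← (Equiv.funUnique (Fin 1) (Fin 2)).symm.sum_comp, Fin.sum_univ_two]
  simp only [Finset.univ_unique, Finset.prod_singleton]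
  rfl

theorem tact_two (e : Fin 2 → ℕ) (g : SpecialLinearGroup (Fin 2) F) (t : (Fin 2 → Fin 2) → F) (i j : Fin 2) :
    tact e g t ![i, j] = g i 0 ^ 2 ^ e 0 * g j 0 ^ 2 ^ e 1 * t ![0, 0] + g i 0 ^ 2 ^ e 0 * g j 1 ^ 2 ^ e 1 * t ![0, 1] +
      (g i 1 ^ 2 ^ e 0 * g j 0 ^ 2 ^ e 1 * t ![1, 0] + g i 1 ^ 2 ^ e 0 * g j 1 ^ 2 ^ e 1 * t ![1, 1]) := by
  unfold tact
  rw [← (finTwoArrowEquiv (Fin 2)).symm.sum_comp, Fintype.sum_prod_type, Fin.sum_univ_two, Fin.sum_univ_two,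
    Fin.sum_univ_two]
  simp only [Fin.prod_univ_two]
  rfl

/-- evaluation of the tensor -/
def ev {k : ℕ} {s : Fin k → Fin k} {d : ℕ} (ψ : Additive V ≃+ TM F s d) (ε : Fin k → Fin 2) : Additive V →+ F where
  toFun v := (ψ v).1 ε
  map_zero' := by rw [map_zero]; rfl
  map_add' v w := by rw [map_add]; rfl

theorem ev_apply {k : ℕ} {s : Fin k → Fin k} {d : ℕ} (ψ : Additive V ≃+ TM F s d) (ε : Fin k → Fin 2)
    (v : Additive V) : ev ψ ε v = (ψ v).1 ε := rfl

theorem nat2_of {ρ : SpecialLinearGroup (Fin 2) F →* MulAut V} {d : ℕ} (hF : Fintype.card F = 2 ^ d)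
    (ψ : Additive V ≃+ TM F (finRotate 1) d)
    (hψ : ∀ g x, ((ψ (addRho ρ g x) : TM F (finRotate 1) d) : (Fin 1 → Fin 2) → F) = tact (fun a => d * a) g (ψ x)) :
    Nat2 ρ (ev ψ fun _ => 0) (ev ψ fun _ => 1) := by
  have hact : ∀ g v i, ev ψ (fun _ => i) (.ofMul (ρ g v)) =
      g i 0 * ev ψ (fun _ => 0) (.ofMul v) + g i 1 * ev ψ (fun _ => 1) (.ofMul v) := by
    intro g v i
    rw [ev_apply, ← addRho_apply, hψ, tact_one]
    simp [ev_apply]
  refine ⟨?_, ?_, ?_, ?_, ?_, ?_⟩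
  · intro v w h0 h1
    have h2 : ψ (.ofMul v) = ψ (.ofMul w) := by
      apply Subtype.ext
      funext ε
      have h3 : ε = fun _ => ε 0 := by
        funext a
        rw [Subsingleton.elim a 0]
      rw [h3]
      rcases (show ε 0 = 0 ∨ ε 0 = 1 by omega) with h4 | h4
      · rw [h4]; exact h0
      · rw [h4]; exact h1
    exact Additive.ofMul.injective (ψ.injective h2)
  · intro x y
    let t : TM F (finRotate 1) d := ⟨fun ε => if ε 0 = 0 then x else y, fun ε => by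
      have h3 : ε ∘ finRotate 1 = ε := by
        funext a
        exact congrArg ε (Subsingleton.elim _ _)
      rw [h3, ← hF, FiniteField.pow_card]⟩
    refine ⟨(ψ.symm t).toMul, ?_, ?_⟩
    · change (ψ (ψ.symm t)).1 _ = x
      rw [ψ.apply_symm_apply]
      rfl
    · change (ψ (ψ.symm t)).1 _ = y
      rw [ψ.apply_symm_apply]
      rfl
  · intro b v
    rw [hact]
    simp
  · intro b v
    rw [hact]
    simp
  · intro s v
    rw [hact]
    simp
  · intro s v
    rw [hact]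
    simp

theorem om4_of {ρ : SpecialLinearGroup (Fin 2) F →* MulAut V} {d : ℕ} (hF : Fintype.card F = 2 ^ (d * 2))
    (ψ : Additive V ≃+ TM F (finRotate 2) d)
    (hψ : ∀ g x, ((ψ (addRho ρ g x) : TM F (finRotate 2) d) : (Fin 2 → Fin 2) → F) = tact (fun a => d * a) g (ψ x)) :
    OM4 ρ (2 ^ d) (ev ψ ![0, 0]) (ev ψ ![0, 1]) (ev ψ ![1, 1]) := by
  have hs : ∀ i j : Fin 2, ![i, j] ∘ (finRotate 2) = ![j, i] := by
    intro i j
    funext a
    fin_cases a <;> rfl
  have hq : ∀ x : F, (x ^ 2 ^ d) ^ 2 ^ d = x := by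
    intro x
    rw [← pow_mul, ← pow_add, ← two_mul, mul_comm, ← hF, FiniteField.pow_card]
  have h10 : ∀ v, ev ψ ![1, 0] v = ev ψ ![0, 1] v ^ 2 ^ d := by
    intro v
    have := (ψ v).2 ![1, 0]
    rw [hs] at this
    exact this
  have hact : ∀ g v i j, ev ψ ![i, j] (.ofMul (ρ g v)) =
      g i 0 * g j 0 ^ 2 ^ d * ev ψ ![0, 0] (.ofMul v) + g i 0 * g j 1 ^ 2 ^ d * ev ψ ![0, 1] (.ofMul v) +
      (g i 1 * g j 0 ^ 2 ^ d * ev ψ ![0, 1] (.ofMul v) ^ 2 ^ d + g i 1 * g j 1 ^ 2 ^ d * ev ψ ![1, 1] (.ofMul v)) := by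
    intro g v i j
    rw [← h10, ev_apply, ← addRho_apply, hψ, tact_two]
    simp [ev_apply]
  refine ⟨?_, ?_, ?_, ?_, ?_, ?_, ?_, ?_, ?_, ?_⟩
  · intro v
    have := (ψ v).2 ![0, 0]
    rw [hs] at this
    exact this.symm
  · intro v
    have := (ψ v).2 ![1, 1]
    rw [hs] at this
    exact this.symm
  · intro v w h0 h1 h2
    have h3 : ψ (.ofMul v) = ψ (.ofMul w) := by
      apply Subtype.ext
      funext ε
      have h4 : ε = ![ε 0, ε 1] := by
        funext a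
        fin_cases a <;> rfl
      rw [h4]
      rcases (show ε 0 = 0 ∨ ε 0 = 1 by omega) with h5 | h5 <;>
      rcases (show ε 1 = 0 ∨ ε 1 = 1 by omega) with h6 | h6 <;> rw [h5, h6]
      · exact h0
      · exact h1
      · change ev ψ ![1, 0] (.ofMul v) = ev ψ ![1, 0] (.ofMul w)
        rw [h10, h10, h1]
      · exact h2
    exact Additive.ofMul.injective (ψ.injective h3)
  · intro x y z hx hz
    let f : Fin 2 → Fin 2 → F := fun i j => if i = 0 then (if j = 0 then x else y) else (if j = 0 then y ^ 2 ^ d else z)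
    let t : TM F (finRotate 2) d := ⟨fun ε => f (ε 0) (ε 1), fun ε => by
      change f (ε 0) (ε 1) = f (ε 1) (ε 0) ^ 2 ^ d
      rcases (show ε 0 = 0 ∨ ε 0 = 1 by omega) with h5 | h5 <;>
      rcases (show ε 1 = 0 ∨ ε 1 = 1 by omega) with h6 | h6 <;> rw [h5, h6]
      · exact hx.symm
      · exact (hq y).symm
      · rfl
      · exact hz.symm⟩
    refine ⟨(ψ.symm t).toMul, ?_, ?_, ?_⟩
    · change (ψ (ψ.symm t)).1 _ = x
      rw [ψ.apply_symm_apply]
      rfl
    · change (ψ (ψ.symm t)).1 _ = y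
      rw [ψ.apply_symm_apply]
      rfl
    · change (ψ (ψ.symm t)).1 _ = z
      rw [ψ.apply_symm_apply]
      rfl
  · intro b v
    rw [hact]
    simp [pow_succ]
    ring
  · intro b v
    rw [hact]
    simp
  · intro b v
    rw [hact]
    simp
  · intro s v
    rw [hact, T1Sl2.dg00, T1Sl2.dg01, zero_pow (by positivity), pow_succ]
    ring
  · intro s v
    rw [hact]
    simp
  · intro s v
    rw [hact, T1Sl2.dg10, T1Sl2.dg11, zero_pow (by positivity), pow_succ]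
    ring

open Cfsg.Agent.OddCyclic.FFBasic in
theorem list2 [Finite V] (hV : ∀ v : V, v * v = 1)
    (ρ : SpecialLinearGroup (Fin 2) F →* MulAut V) (hne : ∃ g v, ρ g v ≠ v)
    (irr : ∀ W : Subgroup V, (∀ g, ∀ w ∈ W, ρ g w ∈ W) → W = ⊥ ∨ W = ⊤)
    {a : SpecialLinearGroup (Fin 2) F} (ha : a * a = 1) (ha1 : a ≠ 1) (hi : (fx ρ a).index ≤ Fintype.card F) :
    (Nat.card V = Fintype.card F ^ 2 ∧ ∃ X Y, Nat2 ρ X Y) ∨
      ∃ d, 0 < d ∧ Fintype.card F = 2 ^ (d * 2) ∧ Nat.card V = (2 ^ d) ^ 4 ∧ ∃ X Y Z, OM4 ρ (2 ^ d) X Y Z := by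
  classical
  obtain ⟨m, hm, hF⟩ := T1Sl2.card_pow F
  have h2 : ∀ x : Additive V, x + x = 0 := fun x => hV x.toMul
  have hnt : ∃ g x, addRho ρ g x ≠ x := by
    obtain ⟨g, v, hgv⟩ := hne
    exact ⟨g, .ofMul v, fun h => hgv (Additive.ofMul.injective h)⟩
  have hirr : IsIrr (addRho ρ) := by
    refine ⟨?_, fun W hW => ?_⟩
    · obtain ⟨g, x, hgx⟩ := hnt
      exact ⟨⟨_, _, hgx⟩⟩
    · rcases irr (AddSubgroup.toSubgroup' W) (fun g w hw => hW g (.ofMul w) hw) with h | h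
      · left
        rw [AddSubgroup.eq_bot_iff_forall]
        intro x hx
        have h3 : x.toMul ∈ AddSubgroup.toSubgroup' W := hx
        rw [h, Subgroup.mem_bot] at h3
        exact h3
      · right
        rw [AddSubgroup.eq_top_iff']
        intro x
        have h3 : x.toMul ∈ AddSubgroup.toSubgroup' W := by rw [h]; trivial
        exact h3
  have hSt : Stein.{u, max u v} F m := fun M _ _ _ _ r h => stein hF r h
  obtain ⟨I, hIm, W, hW, φ, hφ⟩ := exists_form hF hSt h2 hirr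
  have hIne : I.Nonempty := by
    rw [Finset.nonempty_iff_ne_empty]
    rintro rfl
    obtain ⟨g, x, hgx⟩ := hnt
    apply hgx
    apply φ.injective
    apply Subtype.ext
    rw [hφ]
    obtain ⟨c, hc⟩ := mem_L_iff.1 (hW.le _ (φ x).2)
    rw [hc]
    funext v
    simp [act_apply, mono_apply]
  obtain ⟨i, hi'⟩ := hIne
  -- `|V| ≤ q²`
  have hVq : Nat.card V ≤ Fintype.card F ^ 2 := by
    obtain ⟨g, t, rfl⟩ := T1Sl2.exists_conj_up ha
    have ht : t ≠ 0 := by
      rintro rfl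
      apply ha1
      rw [T1Sl2.up_zero]
      group
    rw [index_fx_conj] at hi
    have h3 := card_fix_sq_le hF hIm hi' hW ht
    have h4 : Nat.card {f : W // act (uu t) (f : (Fin 2 → F) → F) = f} = Nat.card (fx ρ (up t)) := by
      refine (Nat.card_congr (Equiv.subtypeEquiv (Additive.ofMul.trans φ.toEquiv) fun v => ?_)).symm
      change ρ (up t) v = v ↔ act (uu t) (φ (.ofMul v) : (Fin 2 → F) → F) = φ (.ofMul v)
      rw [← up_eq, ← hφ, addRho_apply]
      constructor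
      · intro h
        rw [h]
      · intro h
        exact Additive.ofMul.injective (φ.injective (Subtype.ext h))
    have h5 : Nat.card W = Nat.card V := (Nat.card_congr (Additive.ofMul.trans φ.toEquiv)).symm
    rw [h4, h5] at h3
    have h6 := (fx ρ (up t)).card_mul_index
    have h7 : Nat.card (fx ρ (up t)) ≤ (fx ρ (up t)).index := by
      have h8 : 0 < Nat.card (fx ρ (up t)) := Nat.card_pos
      rw [← h6, sq] at h3
      exact Nat.le_of_mul_le_mul_left h3 h8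
    rw [← h6, sq]
    exact Nat.mul_le_mul (h7.trans hi) hi
  have hq1 : 1 < Fintype.card F := Fintype.one_lt_card
  rcases list hF hSt h2 hirr hnt (by
    change Nat.card V ≤ _
    exact hVq.trans (Nat.pow_le_pow_right (by omega) (by norm_num))) with ⟨n, d, hn, hd, hmd, hc, ψ, hψ⟩ | ⟨j, _, _, hc, _⟩
  · have hc' : Nat.card V = 2 ^ (d * 2 ^ (n + 1)) := hc
    rw [hc', hF, ← pow_mul, hmd] at hVq
    have h3 := (Nat.pow_le_pow_iff_right (by norm_num : 1 < 2)).1 hVq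
    rw [mul_assoc] at h3
    have h4 := Nat.le_of_mul_le_mul_left h3 hd
    have h5 : n = 0 ∨ n = 1 := by
      interval_cases n <;> simp_all
    rcases h5 with rfl | rfl
    · left
      rw [zero_add, mul_one] at hmd
      subst hmd
      refine ⟨by rw [hc', hF, ← pow_mul]; norm_num, _, _, nat2_of hF ψ hψ⟩
    · right
      rw [one_add_one_eq_two] at hmd
      rw [hmd] at hF
      refine ⟨d, hd, hF, by rw [hc', ← pow_mul]; norm_num, _, _, _, om4_of hF ψ hψ⟩
  · exfalso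
    have hc' : Nat.card V = Fintype.card F ^ 4 := hc
    rw [hc'] at hVq
    have := (Nat.pow_le_pow_iff_right hq1).1 hVq
    omega

end Cfsg.Agent.OddCyclic.KOF
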