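import Cfsg.Agent.OddCyclic.KOF.Coord

/-!
# K-fact: coordinates with the full action, `|V : C_V(a)| ≤ 4 |F|`

`Nat2F`, `OM4F` : coordinates of the natural and of the `O₄⁻` module with the action of all of `SL₂(F)`.
`list4` : an irreducible nontrivial `SL₂(F)`-module `V`, `|F| ≥ 4`, with `|V : C_V(a)| ≤ 4 |F|` for an involution `a`
has natural or `O₄⁻` coordinates, or elements of order three of `N(U)`, `U` Sylow, centralise `C_V(U)`.
-/

set_option autoImplicit false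
set_option linter.unusedSectionVars false
set_option linter.unusedVariables false

namespace Cfsg.Agent.OddCyclic.KOF

open Matrix Finset Cfsg.Agent.Omega.KM
open Cfsg.Agent.OddCyclic.T1Sl2 (up dg)

universe u v

variable {F : Type u} [Field F] [Fintype F] [CharP F 2] {V : Type v} [CommGroup V]

/-- natural coordinates, full action -/
structure Nat2F (ρ : SpecialLinearGroup (Fin 2) F →* MulAut V) (X Y : Additive V →+ F) : Prop where
  inj : ∀ v w : V, X (.ofMul v) = X (.ofMul w) → Y (.ofMul v) = Y (.ofMul w) → v = w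
  surj : ∀ x y : F, ∃ v : V, X (.ofMul v) = x ∧ Y (.ofMul v) = y
  actX : ∀ (g : SpecialLinearGroup (Fin 2) F) (v : V),
    X (.ofMul (ρ g v)) = g 0 0 * X (.ofMul v) + g 0 1 * Y (.ofMul v)
  actY : ∀ (g : SpecialLinearGroup (Fin 2) F) (v : V),
    Y (.ofMul (ρ g v)) = g 1 0 * X (.ofMul v) + g 1 1 * Y (.ofMul v)

/-- coordinates of the `O₄⁻(q)`-module, full action -/
structure OM4F (ρ : SpecialLinearGroup (Fin 2) F →* MulAut V) (q : ℕ) (X Y Z : Additive V →+ F) : Prop where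
  Xq : ∀ v, X v ^ q = X v
  Zq : ∀ v, Z v ^ q = Z v
  inj : ∀ v w : V, X (.ofMul v) = X (.ofMul w) → Y (.ofMul v) = Y (.ofMul w) → Z (.ofMul v) = Z (.ofMul w) → v = w
  surj : ∀ x y z : F, x ^ q = x → z ^ q = z → ∃ v : V, X (.ofMul v) = x ∧ Y (.ofMul v) = y ∧ Z (.ofMul v) = z
  actX : ∀ (g : SpecialLinearGroup (Fin 2) F) (v : V), X (.ofMul (ρ g v)) =
    g 0 0 ^ (q + 1) * X (.ofMul v) + g 0 0 * g 0 1 ^ q * Y (.ofMul v) + g 0 1 * g 0 0 ^ q * Y (.ofMul v) ^ q +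
      g 0 1 ^ (q + 1) * Z (.ofMul v)
  actY : ∀ (g : SpecialLinearGroup (Fin 2) F) (v : V), Y (.ofMul (ρ g v)) =
    g 0 0 * g 1 0 ^ q * X (.ofMul v) + g 0 0 * g 1 1 ^ q * Y (.ofMul v) + g 0 1 * g 1 0 ^ q * Y (.ofMul v) ^ q +
      g 0 1 * g 1 1 ^ q * Z (.ofMul v)
  actZ : ∀ (g : SpecialLinearGroup (Fin 2) F) (v : V), Z (.ofMul (ρ g v)) =
    g 1 0 ^ (q + 1) * X (.ofMul v) + g 1 0 * g 1 1 ^ q * Y (.ofMul v) + g 1 1 * g 1 0 ^ q * Y (.ofMul v) ^ q +
      g 1 1 ^ (q + 1) * Z (.ofMul v)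

theorem Nat2F.toNat2 {ρ : SpecialLinearGroup (Fin 2) F →* MulAut V} {X Y : Additive V →+ F} (h : Nat2F ρ X Y) :
    Nat2 ρ X Y := by
  refine ⟨h.inj, h.surj, fun b v => ?_, fun b v => ?_, fun s v => ?_, fun s v => ?_⟩
  · rw [h.actX]; simp
  · rw [h.actY]; simp
  · rw [h.actX]; simp
  · rw [h.actY]; simp

theorem OM4F.toOM4 {ρ : SpecialLinearGroup (Fin 2) F →* MulAut V} {q : ℕ} (hq : q ≠ 0) {X Y Z : Additive V →+ F}
    (h : OM4F ρ q X Y Z) : OM4 ρ q X Y Z := by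
  refine ⟨h.Xq, h.Zq, h.inj, h.surj, fun b v => ?_, fun b v => ?_, fun b v => ?_, fun s v => ?_, fun s v => ?_,
    fun s v => ?_⟩
  · rw [h.actX]; simp; ring
  · rw [h.actY]; simp [zero_pow hq]
  · rw [h.actZ]; simp [zero_pow hq]
  · rw [h.actX]; simp [zero_pow hq]
  · rw [h.actY]; simp [zero_pow hq]
  · rw [h.actZ]; simp [zero_pow hq]

theorem nat2F_of {ρ : SpecialLinearGroup (Fin 2) F →* MulAut V} {d : ℕ} (hF : Fintype.card F = 2 ^ d)
    (ψ : Additive V ≃+ TM F (finRotate 1) d)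
    (hψ : ∀ g x, ((ψ (addRho ρ g x) : TM F (finRotate 1) d) : (Fin 1 → Fin 2) → F) = tact (fun a => d * a) g (ψ x)) :
    Nat2F ρ (ev ψ fun _ => 0) (ev ψ fun _ => 1) := by
  have hact : ∀ g v i, ev ψ (fun _ => i) (.ofMul (ρ g v)) =
      g i 0 * ev ψ (fun _ => 0) (.ofMul v) + g i 1 * ev ψ (fun _ => 1) (.ofMul v) := by
    intro g v i
    rw [ev_apply, ← addRho_apply, hψ, tact_one]
    simp [ev_apply]
  have h := nat2_of hF ψ hψ
  exact ⟨h.inj, h.surj, fun g v => hact g v 0, fun g v => hact g v 1⟩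

theorem om4F_of {ρ : SpecialLinearGroup (Fin 2) F →* MulAut V} {d : ℕ} (hF : Fintype.card F = 2 ^ (d * 2))
    (ψ : Additive V ≃+ TM F (finRotate 2) d)
    (hψ : ∀ g x, ((ψ (addRho ρ g x) : TM F (finRotate 2) d) : (Fin 2 → Fin 2) → F) = tact (fun a => d * a) g (ψ x)) :
    OM4F ρ (2 ^ d) (ev ψ ![0, 0]) (ev ψ ![0, 1]) (ev ψ ![1, 1]) := by
  have hs : ∀ i j : Fin 2, ![i, j] ∘ (finRotate 2) = ![j, i] := by
    intro i j
    funext a
    fin_cases a <;> rfl
  have h10 : ∀ v, ev ψ ![1, 0] v = ev ψ ![0, 1] v ^ 2 ^ d := by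
    intro v
    have := (ψ v).2 ![1, 0]
    rw [hs] at this
    exact this
  have hact : ∀ g v i j, ev ψ ![i, j] (.ofMul (ρ g v)) =
      g i 0 * g j 0 ^ 2 ^ d * ev ψ ![0, 0] (.ofMul v) + g i 0 * g j 1 ^ 2 ^ d * ev ψ ![0, 1] (.ofMul v) +
      (g i 1 * g j 0 ^ 2 ^ d * ev ψ ![0, 1] (.ofMul v) ^ 2 ^ d + g i 1 * g j 1 ^ 2 ^ d * ev ψ ![1, 1] (.ofMul v)) := by
    intro g v i j
    rw [← h10, ev_apply, ← addRho_apply, hψ, tact_two]
    simp [ev_apply]
  have h := om4_of hF ψ hψ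
  refine ⟨h.Xq, h.Zq, h.inj, h.surj, fun g v => ?_, fun g v => ?_, fun g v => ?_⟩
  · rw [hact]; ring
  · rw [hact]; ring
  · rw [hact]; ring

/-! ### three digits -/

theorem dg_eq (s : Fˣ) : dg s = hh s := by
  apply Cfsg.Agent.OddCyclic.T1Sl2.ext2 <;> rfl

/-- the torus on the fixed points of `U` -/
theorem dg_fix_of {ρ : SpecialLinearGroup (Fin 2) F →* MulAut V} {m k : ℕ} {e : Fin k → ℕ}
    (hF : Fintype.card F = 2 ^ m) (he : Function.Injective e) (hem : ∀ a, e a < m)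
    {ψ : Additive V → ((Fin k → Fin 2) → F)} (hi : Function.Injective ψ)
    (hψ : ∀ g x, ψ (addRho ρ g x) = tact e g (ψ x))
    {v : V} (hv : ∀ b : F, ρ (up b) v = v) {c : Fˣ}
    (hc : (c : F) ^ (∑ a, 2 ^ e a) = 1) : ρ (dg c) v = v := by
  classical
  set I := (Finset.univ : Finset (Fin k)).image e with hI
  have hIm : I ⊆ range m := by
    intro x hx
    obtain ⟨a, _, rfl⟩ := Finset.mem_image.1 hx
    exact Finset.mem_range.2 (hem a)
  have hb : bits I = ∑ a, 2 ^ e a := by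
    unfold bits
    rw [hI, Finset.sum_image fun a _ b _ h => he h]
  have key : ∀ g, act g (tf e (ψ (.ofMul v))) = tf e (ψ (.ofMul (ρ g v))) := by
    intro g
    rw [act_tf, ← addRho_apply, hψ]
  obtain ⟨r, hr⟩ := fixed_iff hF hIm (f := tf e (ψ (.ofMul v))) (by rw [← range_tf he rfl]; exact ⟨_, rfl⟩)
    fun b => by rw [key, ← up_eq, hv]
  have h1 : act (hh c) (tf e (ψ (.ofMul v))) = tf e (ψ (.ofMul v)) := by
    rw [hr, map_smul]
    congr 1
    funext x
    rw [act_apply, mono_self, mono_self, vecMul_hh]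
    simp only [cons_val_zero, mul_pow]
    rw [hb, hc, mul_one]
  rw [key, ← dg_eq] at h1
  exact Additive.ofMul.injective (hi (tf_injective hF he rfl hIm h1))

theorem three_of {ρ : SpecialLinearGroup (Fin 2) F →* MulAut V} {m k : ℕ} {e : Fin k → ℕ}
    (hF : Fintype.card F = 2 ^ m) (he : Function.Injective e) (hem : ∀ a, e a < m)
    {ψ : Additive V → ((Fin k → Fin 2) → F)} (hi : Function.Injective ψ)
    (hψ : ∀ g x, ψ (addRho ρ g x) = tact e g (ψ x))
    (hc : ∀ c : Fˣ, (c : F) ^ 3 = 1 → (c : F) ^ (∑ a, 2 ^ e a) = 1) :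
    ∀ U : Sylow 2 (SpecialLinearGroup (Fin 2) F),
      ∀ y ∈ Subgroup.normalizer ((U : Subgroup (SpecialLinearGroup (Fin 2) F)) : Set (SpecialLinearGroup (Fin 2) F)),
      orderOf y = 3 → ∀ v ∈ T1Module.CS ρ (U : Subgroup (SpecialLinearGroup (Fin 2) F)), ρ y v = v := by
  intro U y hy h3 v hv
  obtain ⟨g, rfl⟩ := T1Sl2.exists_smul_SU U
  rw [T1Sl2.mem_norm] at hy
  set x := g⁻¹ * y * g with hx
  have hxS : x • T1Sl2.SU F = T1Sl2.SU F := by
    rw [hx, mul_smul, mul_smul, hy, inv_smul_smul]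
  rw [T1Sl2.smul_SU_eq] at hxS
  obtain ⟨t, c, hxc⟩ := T1Sl2.borel_decomp hxS
  have hx3 : x ^ 3 = 1 := by
    have h4 : x ^ 3 = g⁻¹ * y ^ 3 * g := by rw [hx, pow_succ, pow_two, pow_succ, pow_two]; group
    rw [h4, ← h3, pow_orderOf_eq_one]; group
  have hc3 : (c : F) ^ 3 = 1 := by
    have h4 : (x ^ 3) 0 0 = 1 := by rw [hx3]; exact T1Sl2.one00
    have h5 : x 0 0 = c := by rw [hxc, T1Sl2.mul00]; simp
    have h6 : (x ^ 3) 0 0 = x 0 0 ^ 3 := by
      rw [pow_succ, pow_two, T1Sl2.mul00, T1Sl2.mul00, T1Sl2.mul01, hxS]; ring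
    rw [← h5, ← h6, h4]
  have hw : ∀ b : F, ρ (up b) (ρ g⁻¹ v) = ρ g⁻¹ v := by
    intro b
    have h4 : g * up b * g⁻¹ ∈ g • T1Sl2.SU F := T1Sl2.conj_mem_smul (T1Sl2.up_mem b)
    have h5 := hv _ h4
    have h6 : ρ g⁻¹ (ρ (g * up b * g⁻¹) v) = ρ (up b) (ρ g⁻¹ v) := by
      rw [← MulAut.mul_apply, ← MulAut.mul_apply, ← map_mul, ← map_mul]
      congr 2
      group
    rw [← h6, h5]
  have h7 := dg_fix_of hF he hem hi hψ hw (hc c hc3)
  have h8 : ρ x (ρ g⁻¹ v) = ρ g⁻¹ v := by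
    rw [hxc, map_mul, MulAut.mul_apply, h7, hw]
  have h9 : ρ y v = ρ g (ρ x (ρ g⁻¹ v)) := by
    rw [← MulAut.mul_apply, ← MulAut.mul_apply, ← map_mul, ← map_mul]
    congr 2
    rw [hx]; group
  rw [h9, h8, ← MulAut.mul_apply, ← map_mul, mul_inv_cancel, map_one]
  rfl

open Cfsg.Agent.OddCyclic.FFBasic in
theorem list4 [Finite V] (h4 : 4 ≤ Fintype.card F) (hV : ∀ v : V, v * v = 1)
    (ρ : SpecialLinearGroup (Fin 2) F →* MulAut V) (hne : ∃ g v, ρ g v ≠ v)
    (irr : ∀ W : Subgroup V, (∀ g, ∀ w ∈ W, ρ g w ∈ W) → W = ⊥ ∨ W = ⊤)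
    {a : SpecialLinearGroup (Fin 2) F} (ha : a * a = 1) (ha1 : a ≠ 1) (hi : (fx ρ a).index ≤ 4 * Fintype.card F) :
    (Nat.card V = Fintype.card F ^ 2 ∧ ∃ X Y, Nat2F ρ X Y) ∨
      (∃ d, 0 < d ∧ Fintype.card F = 2 ^ (d * 2) ∧ Nat.card V = (2 ^ d) ^ 4 ∧ ∃ X Y Z, OM4F ρ (2 ^ d) X Y Z) ∨
      (∀ U : Sylow 2 (SpecialLinearGroup (Fin 2) F),
        ∀ y ∈ Subgroup.normalizer ((U : Subgroup (SpecialLinearGroup (Fin 2) F)) : Set (SpecialLinearGroup (Fin 2) F)),
        orderOf y = 3 → ∀ v ∈ T1Module.CS ρ (U : Subgroup (SpecialLinearGroup (Fin 2) F)), ρ y v = v) := by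
  classical
  obtain ⟨m, hm, hF⟩ := T1Sl2.card_pow F
  have h2 : ∀ x : Additive V, x + x = 0 := fun x => hV x.toMul
  have hnt : ∃ g x, addRho ρ g x ≠ x := by
    obtain ⟨g, v, hgv⟩ := hne
    exact ⟨g, .ofMul v, fun h => hgv (Additive.ofMul.injective h)⟩
  have hirr : IsIrr (addRho ρ) := by
    refine ⟨?_, fun W hW => ?_⟩
    · obtain ⟨g, x, hgx⟩ := hnt
      exact ⟨⟨_, _, hgx⟩⟩
    · rcases irr (AddSubgroup.toSubgroup' W) (fun g w hw => hW g (.ofMul w) hw) with h | h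
      · left
        rw [AddSubgroup.eq_bot_iff_forall]
        intro x hx
        have h3 : x.toMul ∈ AddSubgroup.toSubgroup' W := hx
        rw [h, Subgroup.mem_bot] at h3
        exact h3
      · right
        rw [AddSubgroup.eq_top_iff']
        intro x
        have h3 : x.toMul ∈ AddSubgroup.toSubgroup' W := by rw [h]; trivial
        exact h3
  have hSt : Stein.{u, max u v} F m := fun M _ _ _ _ r h => stein hF r h
  obtain ⟨I, hIm, W, hW, φ, hφ⟩ := exists_form hF hSt h2 hirr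
  have hIne : I.Nonempty := by
    rw [Finset.nonempty_iff_ne_empty]
    rintro rfl
    obtain ⟨g, x, hgx⟩ := hnt
    apply hgx
    apply φ.injective
    apply Subtype.ext
    rw [hφ]
    obtain ⟨c, hc⟩ := mem_L_iff.1 (hW.le _ (φ x).2)
    rw [hc]
    funext v
    simp [act_apply, mono_apply]
  obtain ⟨i, hi'⟩ := hIne
  -- `|V| ≤ 16 q²`
  have hVq : Nat.card V ≤ 2 ^ 4 * Fintype.card F ^ 2 := by
    obtain ⟨g, t, rfl⟩ := T1Sl2.exists_conj_up ha
    have ht : t ≠ 0 := by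
      rintro rfl
      apply ha1
      rw [T1Sl2.up_zero]
      group
    rw [index_fx_conj] at hi
    have h3 := card_fix_sq_le hF hIm hi' hW ht
    have h4 : Nat.card {f : W // act (uu t) (f : (Fin 2 → F) → F) = f} = Nat.card (fx ρ (up t)) := by
      refine (Nat.card_congr (Equiv.subtypeEquiv (Additive.ofMul.trans φ.toEquiv) fun v => ?_)).symm
      change ρ (up t) v = v ↔ act (uu t) (φ (.ofMul v) : (Fin 2 → F) → F) = φ (.ofMul v)
      rw [← up_eq, ← hφ, addRho_apply]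
      constructor
      · intro h
        rw [h]
      · intro h
        exact Additive.ofMul.injective (φ.injective (Subtype.ext h))
    have h5 : Nat.card W = Nat.card V := (Nat.card_congr (Additive.ofMul.trans φ.toEquiv)).symm
    rw [h4, h5] at h3
    have h6 := (fx ρ (up t)).card_mul_index
    have h7 : Nat.card (fx ρ (up t)) ≤ (fx ρ (up t)).index := by
      have h8 : 0 < Nat.card (fx ρ (up t)) := Nat.card_pos
      rw [← h6, sq] at h3
      exact Nat.le_of_mul_le_mul_left h3 h8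
    calc Nat.card V = Nat.card (fx ρ (up t)) * (fx ρ (up t)).index := h6.symm
      _ ≤ (4 * Fintype.card F) * (4 * Fintype.card F) := Nat.mul_le_mul (h7.trans hi) hi
      _ = 2 ^ 4 * Fintype.card F ^ 2 := by ring
  have hq1 : 1 < Fintype.card F := Fintype.one_lt_card
  have hVq4 : Nat.card V ≤ Fintype.card F ^ 4 := by
    refine hVq.trans ?_
    have h5 : 2 ^ 4 ≤ Fintype.card F ^ 2 := by
      calc 2 ^ 4 = 4 ^ 2 := by norm_num
        _ ≤ _ := Nat.pow_le_pow_left h4 2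
    calc 2 ^ 4 * Fintype.card F ^ 2 ≤ Fintype.card F ^ 2 * Fintype.card F ^ 2 := Nat.mul_le_mul_right _ h5
      _ = Fintype.card F ^ 4 := by ring
  rcases list hF hSt h2 hirr hnt hVq4 with ⟨n, d, hn, hd, hmd, hc, ψ, hψ⟩ | ⟨j, hj0, hjm, hc, hs⟩
  · have hc' : Nat.card V = 2 ^ (d * 2 ^ (n + 1)) := hc
    rw [hc', hF, ← pow_mul, hmd, ← pow_add] at hVq
    have h3 := (Nat.pow_le_pow_iff_right (by norm_num : 1 < 2)).1 hVq
    interval_cases n
    · left
      rw [zero_add, mul_one] at hmd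
      subst hmd
      refine ⟨by rw [hc', hF, ← pow_mul]; norm_num, _, _, nat2F_of hF ψ hψ⟩
    · right; left
      rw [one_add_one_eq_two] at hmd
      rw [hmd] at hF
      refine ⟨d, hd, hF, by rw [hc', ← pow_mul]; norm_num, _, _, _, om4F_of hF ψ hψ⟩
    · right; right
      have h6 : d = 1 ∨ d = 2 := by omega
      rw [hmd] at hF
      refine three_of (e := fun a : Fin 3 => d * (a : ℕ)) hF
        (fun a b hab => Fin.ext (Nat.eq_of_mul_eq_mul_left hd hab))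
        (fun a => Nat.mul_lt_mul_of_pos_left a.2 hd) (ψ := fun x => (ψ x).1)
        (fun x y hxy => ψ.injective (Subtype.ext hxy)) hψ fun c hc3 => ?_
      rw [Fin.sum_univ_three]
      rcases h6 with rfl | rfl
      · have h5 := FiniteField.pow_card_sub_one_eq_one (c : F) c.ne_zero
        rw [hF] at h5
        exact h5
      · have h7 : ((c : F) ^ 3) ^ 7 = 1 := by rw [hc3, one_pow]
        rw [← pow_mul] at h7
        exact h7
    · exfalso
      omega
  · right; right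
    have hc' : Nat.card V = Fintype.card F ^ 4 := hc
    rw [hc'] at hVq
    have h5 : Fintype.card F ^ 2 ≤ 2 ^ 4 := by
      have h6 : Fintype.card F ^ 2 * Fintype.card F ^ 2 ≤ 2 ^ 4 * Fintype.card F ^ 2 := by
        calc Fintype.card F ^ 2 * Fintype.card F ^ 2 = Fintype.card F ^ 4 := by ring
          _ ≤ _ := hVq
      exact Nat.le_of_mul_le_mul_right h6 (by positivity)
    have h6 : m ≤ 2 := by
      rw [hF, ← pow_mul] at h5
      have := (Nat.pow_le_pow_iff_right (by norm_num : 1 < 2)).1 h5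
      omega
    obtain rfl : j = 1 := by omega
    obtain rfl : m = 2 := by omega
    obtain ⟨ψ, hψ⟩ := hs
    refine three_of (e := ![0, 1]) hF (by decide) (by decide) ψ.injective hψ fun c hc3 => ?_
    rw [Fin.sum_univ_two]
    exact hc3

end Cfsg.Agent.OddCyclic.KOF
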