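import Cfsg.Agent.Omega.KM.List

/-!
# K-fact: the fixed points of an involution of `SL(2,2^m)` in the modules `L F I`

`finrank_fix_le` : `act (uu b)`, `b ≠ 0`, has a fixed space of dimension at most `2^(|I| - 1)` on `L F I`;
`Form.card_fix_le` : `|C_W(uu b)|^2 ≤ |W|`.
-/

set_option autoImplicit false
set_option linter.unusedSectionVars false
set_option linter.unusedVariables false

namespace Cfsg.Agent.OddCyclic.KOF

open Matrix Finset Cfsg.Agent.Omega.KM

variable {F : Type*} [Field F]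

/-- multiplication of functions with `x ↦ (x i)^(2^n)` -/
def mulX (i : Fin 2) (n : ℕ) : ((Fin 2 → F) → F) →ₗ[F] ((Fin 2 → F) → F) where
  toFun f v := v i ^ 2 ^ n * f v
  map_add' f g := by
    funext v
    simp [mul_add]
  map_smul' c f := by
    funext v
    simp [mul_left_comm]

theorem mulX_apply (i : Fin 2) (n : ℕ) (f : (Fin 2 → F) → F) (v : Fin 2 → F) :
    mulX i n f v = v i ^ 2 ^ n * f v := rfl

theorem bits_insert {J : Finset ℕ} {i : ℕ} (h : i ∉ J) : bits (insert i J) = 2 ^ i + bits J := by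
  unfold bits
  rw [Finset.sum_insert h]

theorem mulX_zero_mono {I J : Finset ℕ} {i : ℕ} (hi : i ∈ I) (hJ : J ⊆ I.erase i) :
    mulX 0 i (mono (F := F) (I.erase i) J) = mono I (insert i J) := by
  have hiJ : i ∉ J := fun h => (Finset.mem_erase.1 (hJ h)).1 rfl
  have h1 : I \ insert i J = I.erase i \ J := by
    ext x
    simp only [Finset.mem_sdiff, Finset.mem_insert, Finset.mem_erase, not_or]
    tauto
  funext v
  rw [mulX_apply, mono_apply, mono_apply, bits_insert hiJ, h1, pow_add, mul_assoc]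

theorem mulX_one_mono {I J : Finset ℕ} {i : ℕ} (hi : i ∈ I) (hJ : J ⊆ I.erase i) :
    mulX 1 i (mono (F := F) (I.erase i) J) = mono I J := by
  have hiJ : i ∉ J := fun h => (Finset.mem_erase.1 (hJ h)).1 rfl
  have h1 : I \ J = insert i (I.erase i \ J) := by
    ext x
    simp only [Finset.mem_sdiff, Finset.mem_insert, Finset.mem_erase]
    constructor
    · rintro ⟨h2, h3⟩
      by_cases hx : x = i
      · exact Or.inl hx
      · exact Or.inr ⟨⟨hx, h2⟩, h3⟩
    · rintro (rfl | ⟨⟨_, h2⟩, h3⟩)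
      · exact ⟨hi, hiJ⟩
      · exact ⟨h2, h3⟩
  have h2 : i ∉ I.erase i \ J := fun h => (Finset.mem_erase.1 (Finset.mem_sdiff.1 h).1).1 rfl
  funext v
  rw [mulX_apply, mono_apply, mono_apply, h1, bits_insert h2, pow_add]
  ring

theorem mulX_zero_mem {I : Finset ℕ} {i : ℕ} (hi : i ∈ I) {f : (Fin 2 → F) → F} (hf : f ∈ L F (I.erase i)) :
    mulX 0 i f ∈ L F I := by
  obtain ⟨c, rfl⟩ := mem_L_iff.1 hf
  rw [map_sum]
  refine Submodule.sum_mem _ fun J hJ => ?_
  have hJ' := Finset.mem_powerset.1 hJ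
  rw [map_smul, mulX_zero_mono hi hJ']
  exact Submodule.smul_mem _ _ (mono_mem (Finset.insert_subset hi (hJ'.trans (Finset.erase_subset _ _))))

theorem mulX_one_mem {I : Finset ℕ} {i : ℕ} (hi : i ∈ I) {f : (Fin 2 → F) → F} (hf : f ∈ L F (I.erase i)) :
    mulX 1 i f ∈ L F I := by
  obtain ⟨c, rfl⟩ := mem_L_iff.1 hf
  rw [map_sum]
  refine Submodule.sum_mem _ fun J hJ => ?_
  have hJ' := Finset.mem_powerset.1 hJ
  rw [map_smul, mulX_one_mono hi hJ']
  exact Submodule.smul_mem _ _ (mono_mem (hJ'.trans (Finset.erase_subset _ _)))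

/-- `(h1, h2) ↦ x^(2^i) h1 + y^(2^i) h2` -/
def comb {I : Finset ℕ} {i : ℕ} (hi : i ∈ I) : (L F (I.erase i) × L F (I.erase i)) →ₗ[F] L F I where
  toFun p := ⟨mulX 0 i p.1.1 + mulX 1 i p.2.1,
    Submodule.add_mem _ (mulX_zero_mem hi p.1.2) (mulX_one_mem hi p.2.2)⟩
  map_add' p q := Subtype.ext (by
    change mulX 0 i (p.1.1 + q.1.1) + mulX 1 i (p.2.1 + q.2.1) =
      (mulX 0 i p.1.1 + mulX 1 i p.2.1) + (mulX 0 i q.1.1 + mulX 1 i q.2.1)
    rw [map_add, map_add, add_add_add_comm])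
  map_smul' c p := Subtype.ext (by
    change mulX 0 i (c • p.1.1) + mulX 1 i (c • p.2.1) = c • (mulX 0 i p.1.1 + mulX 1 i p.2.1)
    rw [map_smul, map_smul, smul_add])

theorem comb_coe {I : Finset ℕ} {i : ℕ} (hi : i ∈ I) (p : L F (I.erase i) × L F (I.erase i)) :
    ((comb hi p : L F I) : (Fin 2 → F) → F) = mulX 0 i p.1.1 + mulX 1 i p.2.1 := rfl

theorem comb_surjective {I : Finset ℕ} {i : ℕ} (hi : i ∈ I) : Function.Surjective (comb (F := F) hi) := by
  classical
  rintro ⟨f, hf⟩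
  obtain ⟨c, rfl⟩ := mem_L_iff.1 hf
  have hmem : ∀ J, J ∈ I.powerset → ∃ p, ((comb (F := F) hi p : L F I) : (Fin 2 → F) → F) = mono I J := by
    intro J hJ
    have hJ' := Finset.mem_powerset.1 hJ
    by_cases hiJ : i ∈ J
    · have h1 : J.erase i ⊆ I.erase i := Finset.erase_subset_erase _ hJ'
      refine ⟨(⟨mono (I.erase i) (J.erase i), mono_mem h1⟩, 0), ?_⟩
      rw [comb_coe]
      change mulX 0 i (mono (I.erase i) (J.erase i)) + mulX 1 i 0 = mono I J
      rw [map_zero, add_zero, mulX_zero_mono hi h1, Finset.insert_erase hiJ]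
    · have h1 : J ⊆ I.erase i := fun x hx => Finset.mem_erase.2 ⟨fun h => hiJ (h ▸ hx), hJ' hx⟩
      refine ⟨(0, ⟨mono (I.erase i) J, mono_mem h1⟩), ?_⟩
      rw [comb_coe]
      change mulX 0 i 0 + mulX 1 i (mono (I.erase i) J) = mono I J
      rw [map_zero, zero_add, mulX_one_mono hi h1]
  choose! p hp using hmem
  refine ⟨∑ J ∈ I.powerset, c J • p J, Subtype.ext ?_⟩
  rw [map_sum]
  change ((∑ J ∈ I.powerset, comb hi (c J • p J) : L F I) : (Fin 2 → F) → F) = _
  rw [Submodule.coe_sum]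
  refine Finset.sum_congr rfl fun J hJ => ?_
  rw [map_smul]
  change c J • ((comb hi (p J) : L F I) : (Fin 2 → F) → F) = c J • mono I J
  rw [hp J hJ]

variable [Fintype F] {m : ℕ}

theorem comb_injective (hF : Fintype.card F = 2 ^ m) {I : Finset ℕ} (hI : I ⊆ range m) {i : ℕ} (hi : i ∈ I) :
    Function.Injective (comb (F := F) hi) := by
  have hfin : FiniteDimensional F (L F (I.erase i)) := by
    apply Module.finite_of_finrank_pos
    rw [finrank_L hF ((Finset.erase_subset _ _).trans hI)]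
    positivity
  have hfin' : FiniteDimensional F (L F I) := by
    apply Module.finite_of_finrank_pos
    rw [finrank_L hF hI]
    positivity
  refine (LinearMap.injective_iff_surjective_of_finrank_eq_finrank ?_).2 (comb_surjective hi)
  rw [Module.finrank_prod, finrank_L hF hI, finrank_L hF ((Finset.erase_subset _ _).trans hI),
    Finset.card_erase_of_mem hi]
  have h1 : 0 < I.card := Finset.card_pos.2 ⟨i, hi⟩
  obtain ⟨k, hk⟩ : ∃ k, I.card = k + 1 := ⟨I.card - 1, by omega⟩
  rw [hk, Nat.add_sub_cancel, pow_succ]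
  ring

/-- the fixed functions of `uu b` in `L F I` -/
def FixL (I : Finset ℕ) (b : F) : Submodule F ((Fin 2 → F) → F) where
  carrier := {f | f ∈ L F I ∧ act (uu b) f = f}
  add_mem' := fun {f g} hf hg => ⟨Submodule.add_mem _ hf.1 hg.1, by rw [map_add, hf.2, hg.2]⟩
  zero_mem' := ⟨Submodule.zero_mem _, map_zero _⟩
  smul_mem' := fun c f hf => ⟨Submodule.smul_mem _ _ hf.1, by rw [map_smul, hf.2]⟩

theorem act_mulX_zero [CharP F 2] (b : F) (n : ℕ) (f : (Fin 2 → F) → F) :
    act (uu b) (mulX 0 n f) = mulX 0 n (act (uu b) f) := by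
  funext v
  rw [act_apply, mulX_apply, mulX_apply, act_apply, vecMul_uu]
  simp

theorem act_mulX_one [CharP F 2] (b : F) (n : ℕ) (f : (Fin 2 → F) → F) :
    act (uu b) (mulX 1 n f) = mulX 0 n (b ^ 2 ^ n • act (uu b) f) + mulX 1 n (act (uu b) f) := by
  funext v
  rw [act_apply, mulX_apply, Pi.add_apply, mulX_apply, mulX_apply, Pi.smul_apply, act_apply, vecMul_uu]
  simp only [cons_val_one, cons_val_zero, smul_eq_mul]
  rw [add_pow_char_pow, mul_pow]
  ring

/-- the fixed space of an involution has dimension at most `2^(|I| - 1)` -/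
theorem finrank_fix_le [CharP F 2] (hF : Fintype.card F = 2 ^ m) {I : Finset ℕ} (hI : I ⊆ range m) {i : ℕ} (hi : i ∈ I)
    {b : F} (hb : b ≠ 0) : Module.finrank F (FixL I b) ≤ 2 ^ (I.card - 1) := by
  classical
  have hfin : FiniteDimensional F (L F (I.erase i)) := by
    apply Module.finite_of_finrank_pos
    rw [finrank_L hF ((Finset.erase_subset _ _).trans hI)]
    positivity
  set β := b ^ 2 ^ i with hβ
  have hβ0 : β ≠ 0 := pow_ne_zero _ hb
  -- the map `h1 ↦ x^(2^i) h1 + y^(2^i) β⁻¹ (h1 - a h1)`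
  let T : L F (I.erase i) →ₗ[F] ((Fin 2 → F) → F) :=
    (mulX 0 i ∘ₗ (L F (I.erase i)).subtype) +
      (mulX 1 i ∘ₗ (β⁻¹ • ((L F (I.erase i)).subtype - (act (uu b)) ∘ₗ (L F (I.erase i)).subtype)))
  have hT : ∀ h, T h = mulX 0 i h.1 + mulX 1 i (β⁻¹ • (h.1 - act (uu b) h.1)) := fun h => rfl
  have h1 : FixL I b ≤ LinearMap.range T := by
    rintro f ⟨hf, hfix⟩
    obtain ⟨⟨p, q⟩, hpq⟩ := comb_surjective hi ⟨f, hf⟩
    have hf' : f = mulX 0 i p.1 + mulX 1 i q.1 := (congrArg Subtype.val hpq).symm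
    have hp' : act (uu b) p.1 + β • act (uu b) q.1 ∈ L F (I.erase i) :=
      Submodule.add_mem _ (act_mem _ p.2) (Submodule.smul_mem _ _ (act_mem _ q.2))
    have hq' : act (uu b) q.1 ∈ L F (I.erase i) := act_mem _ q.2
    have h2 : comb (F := F) hi (⟨_, hp'⟩, ⟨_, hq'⟩) = comb hi (p, q) := by
      apply Subtype.ext
      rw [comb_coe, comb_coe]
      change mulX 0 i (act (uu b) p.1 + β • act (uu b) q.1) + mulX 1 i (act (uu b) q.1) = mulX 0 i p.1 + mulX 1 i q.1
      rw [← hf']
      conv_rhs => rw [← hfix, hf']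
      rw [map_add, map_add, act_mulX_zero, act_mulX_one, ← hβ, add_assoc]
    have h3 := comb_injective hF hI hi h2
    have h4 : act (uu b) p.1 + β • act (uu b) q.1 = p.1 := congrArg (fun r => (r.1 : (Fin 2 → F) → F)) h3
    have h5 : act (uu b) q.1 = q.1 := congrArg (fun r => (r.2 : (Fin 2 → F) → F)) h3
    have h6 : p.1 - act (uu b) p.1 = β • q.1 := by
      rw [h5] at h4
      rw [sub_eq_iff_eq_add, add_comm]
      exact h4.symm
    refine ⟨p, ?_⟩
    rw [hT, hf', h6, smul_smul, inv_mul_cancel₀ hβ0, one_smul]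
  refine (Submodule.finrank_mono h1).trans ((LinearMap.finrank_range_le T).trans ?_)
  rw [finrank_L hF ((Finset.erase_subset _ _).trans hI), Finset.card_erase_of_mem hi]

/-- the general bound: `D`-valued functions in a subspace `E` -/
theorem finrank_le' (E : Submodule F ((Fin 2 → F) → F)) (D : Subfield F)
    (T : Submodule D ((Fin 2 → F) → D)) (hT : ∀ f ∈ T, (fun v => (f v : F)) ∈ E) :
    Module.finrank D T ≤ Module.finrank F E := by
  classical
  have : Finite T := inferInstance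
  have : Module.Finite D T := Module.Finite.of_finite
  let b := Module.finBasis D T
  have h1 : LinearIndependent D fun i => (b i : (Fin 2 → F) → D) :=
    b.linearIndependent.map' T.subtype T.ker_subtype
  have h2 : LinearIndependent F fun i => algebraMap D F ∘ (b i : (Fin 2 → F) → D) :=
    linearIndependent_algebraMap_comp_iff.2 h1
  have h3 : LinearIndependent F fun i => (⟨algebraMap D F ∘ (b i : (Fin 2 → F) → D), hT _ (b i).2⟩ : E) := by
    refine LinearIndependent.of_comp E.subtype ?_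
    exact h2
  have h4 := h3.fintype_card_le_finrank
  rwa [Fintype.card_fin] at h4

/-- `|C_W(uu b)| ^ 2 ≤ |W|` -/
theorem card_fix_sq_le [CharP F 2] (hF : Fintype.card F = 2 ^ m) {I : Finset ℕ} (hI : I ⊆ range m) {i : ℕ} (hi : i ∈ I)
    {W : AddSubgroup ((Fin 2 → F) → F)} (h : Form F I W) {b : F} (hb : b ≠ 0) :
    Nat.card {f : W // act (uu b) (f : (Fin 2 → F) → F) = f} ^ 2 ≤ Nat.card W := by
  classical
  let T : Submodule h.D ((Fin 2 → F) → h.D) :=
    { carrier := {f | (fun v => (f v : F)) ∈ W ∧ act (uu b) (fun v => (f v : F)) = fun v => (f v : F)}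
      add_mem' := fun {f g} hf hg => ⟨W.add_mem hf.1 hg.1, by
        have := map_add (act (uu b)) (fun v => (f v : F)) (fun v => (g v : F))
        rw [hf.2, hg.2] at this
        exact this⟩
      zero_mem' := ⟨W.zero_mem, map_zero (act (uu b))⟩
      smul_mem' := fun c f hf => ⟨c.2 _ hf.1, by
        have := map_smul (act (uu b)) (c : F) (fun v => (f v : F))
        rw [hf.2] at this
        exact this⟩ }
  have h1 : Module.finrank h.D T ≤ 2 ^ (I.card - 1) :=
    (finrank_le' (FixL I b) h.D T fun f hf => ⟨h.le _ hf.1, hf.2⟩).trans (finrank_fix_le hF hI hi hb)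
  have h2 : Nat.card {f : W // act (uu b) (f : (Fin 2 → F) → F) = f} = Nat.card T := by
    refine Nat.card_congr ⟨fun f => ⟨fun v => ⟨f.1.1 v, h.val_mem f.1.2 v⟩, f.1.2, f.2⟩,
      fun f => ⟨⟨fun v => (f.1 v : F), f.2.1⟩, f.2.2⟩, fun f => rfl, fun f => rfl⟩
  have : Fintype T := Fintype.ofFinite _
  have : Fintype h.D := Fintype.ofFinite _
  have h3 : Nat.card T = Nat.card h.D ^ Module.finrank h.D T := by
    rw [Nat.card_eq_fintype_card, Nat.card_eq_fintype_card]
    exact Module.card_eq_pow_finrank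
  have hpos : 0 < Nat.card h.D := Nat.card_pos
  rw [h2, h3, h.card_eq hF hI, ← pow_mul]
  refine Nat.pow_le_pow_right hpos ?_
  have h4 : 0 < I.card := Finset.card_pos.2 ⟨i, hi⟩
  obtain ⟨k, hk⟩ : ∃ k, I.card = k + 1 := ⟨I.card - 1, by omega⟩
  rw [hk, Nat.add_sub_cancel] at h1
  rw [hk, pow_succ]
  exact Nat.mul_le_mul_right 2 h1

end Cfsg.Agent.OddCyclic.KOF
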